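import Groth.Agent.Lib.SubGrpd.Pts

/-!
# Change of the test scheme for points of a groupoid scheme
-/

set_option autoImplicit false

universe u

open CategoryTheory CategoryTheory.Limits AlgebraicGeometry

namespace Groth.Agent.Lib.SubGrpd

variable {S : Scheme.{u}} {G : Grpd.GroupoidScheme S} {T T' : Scheme.{u}} (g : T' ⟶ T)

/-- Pull back an object. -/
def Pts.pull (x : Pts G T) : Pts G T' := ⟨g ≫ x.pt⟩

/-- Pull back an arrow. -/
def pullArr {x y : Pts G T} (f : x ⟶ y) : x.pull g ⟶ y.pull g :=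
  ⟨g ≫ f.val, by rw [Category.assoc, f.hs]; rfl, by rw [Category.assoc, f.ht]; rfl⟩

theorem pullArr_val {x y : Pts G T} (f : x ⟶ y) : (pullArr g f).val = g ≫ f.val := rfl

theorem pullArr_comp {x y z : Pts G T} (f : x ⟶ y) (h : y ⟶ z) :
    pullArr g (f ≫ h) = pullArr g f ≫ pullArr g h :=
  Arr.ext (comp_mul G g _ _ _)

theorem pullArr_id (x : Pts G T) : pullArr g (𝟙 x) = 𝟙 (x.pull g) :=
  Arr.ext (Category.assoc g x.pt G.e).symm

variable {P : Scheme.{u}} {ιP : P ⟶ G.R}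

theorem InP.pull {x y : Pts G T} {f : x ⟶ y} (hf : InP ιP f) : InP ιP (pullArr g f) := by
  obtain ⟨a, ha⟩ := hf
  exact ⟨g ≫ a, by rw [Category.assoc, ha]; rfl⟩

/-- Composites of related composable arrows, corrected by the subgroupoid, are related. -/
theorem rel_comp (h : IsSub G ιP) {x₁ y₁ x₂ y₂ x₁' y₁' x₂' y₂' : Pts G T} {r₁ : x₁ ⟶ y₁}
    {r₂ : x₂ ⟶ y₂} {r₁' : x₁' ⟶ y₁'} {r₂' : x₂' ⟶ y₂'} {f : y₂ ⟶ x₁} {f' : y₂' ⟶ x₁'}
    (hf : InP ιP f) (hf' : InP ιP f') (h₁ : Rel ιP r₁.val r₁'.val) (h₂ : Rel ιP r₂.val r₂'.val) :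
    Rel ιP (r₂ ≫ f ≫ r₁).val (r₂' ≫ f' ≫ r₁').val := by
  obtain ⟨a, b, ha, hb, rfl⟩ := (rel_iff r₁ r₁').1 h₁
  obtain ⟨a', b', ha', hb', rfl⟩ := (rel_iff r₂ r₂').1 h₂
  refine (rel_iff _ _).2 ⟨a', b, ha', hb, ?_⟩
  have : b' ≫ f' ≫ a = f := InP.unique h (hb'.comp h (hf'.comp h ha)) hf
  rw [← this]
  simp

end Groth.Agent.Lib.SubGrpd
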