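import Groth.Agent.Lib.SubGrpd.Quot
import Groth.Agent.Lib.SubGrpd.Pull

/-!
# The quotient groupoid by a finite locally free subgroupoid
-/

set_option autoImplicit false
set_option linter.style.haveILetI false

universe u

open CategoryTheory CategoryTheory.Limits AlgebraicGeometry

namespace Groth.Agent.Lib.SubGrpd

open Groth.Agent.Lib.AlgSpace

variable {S : Scheme.{u}} {G : Grpd.GroupoidScheme S} {P : Scheme.{u}} {ιP : P ⟶ G.R}

/-- The quotient groupoid. -/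
theorem exists_quotient_groupoid [IsAffine G.U] [IsSeparated G.j] [LocallyQuasiFinite G.j]
    [LocallyOfFiniteType G.j] (h : IsSub G ιP)
    [IsFinite (ιP ≫ G.s)] [Flat (ιP ≫ G.s)] [LocallyOfFinitePresentation (ιP ≫ G.s)]
    [IsFinite (ιP ≫ G.t)] [Flat (ιP ≫ G.t)] [LocallyOfFinitePresentation (ιP ≫ G.t)] :
    ∃ (H : Grpd.GroupoidScheme S) (φ : Grpd.GroupoidScheme.Hom G H),
      IsAffine H.U ∧
      QuotSh.IsQuotient Scheme.fppfPrecoverage
        (Over.homMk (ιP ≫ G.s) ((Category.assoc _ _ _).trans (congrArg (ιP ≫ ·) G.s_over)) :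
          (Over.mk (ιP ≫ G.pR) : Over S) ⟶ Over.mk G.pU)
        (Over.homMk (ιP ≫ G.t) ((Category.assoc _ _ _).trans (congrArg (ιP ≫ ·) G.t_over)) :
          (Over.mk (ιP ≫ G.pR) : Over S) ⟶ Over.mk G.pU)
        (Over.homMk φ.fU φ.fU_over : Over.mk G.pU ⟶ Over.mk H.pU) ∧
      IsFinite φ.fU ∧ Flat φ.fU ∧ LocallyOfFinitePresentation φ.fU ∧
      IsPullback (ιP ≫ G.t) (ιP ≫ G.s) φ.fU φ.fU ∧
      IsPullback φ.fR G.j H.j
        (pullback.map G.pU G.pU H.pU H.pU φ.fU φ.fU (𝟙 S)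
          ((Category.comp_id _).trans φ.fU_over.symm) ((Category.comp_id _).trans φ.fU_over.symm)) := by
  obtain ⟨Ub, q, pb, hqS, hUb, hq₁, hq₂, hq₃, hq₄, sqP, hqiff, hquot⟩ := exists_quotient_objects h
  obtain ⟨Rb, m, mR, hmR, hm₁, hm₂, hm₃, hm₄, hmiff⟩ := exists_quotient_arrows h
  haveI := hq₁; haveI := hq₂; haveI := hq₃; haveI := hq₄
  haveI := hm₁; haveI := hm₂; haveI := hm₃; haveI := hm₄
  -- source and target
  have hends : ∀ {T : Scheme.{u}} {r r' : T ⟶ G.R}, r ≫ m = r' ≫ m →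
      r ≫ G.s ≫ q = r' ≫ G.s ≫ q ∧ r ≫ G.t ≫ q = r' ≫ G.t ≫ q := fun {T r r'} e => by
    obtain ⟨f, g, hf, hg, -⟩ := (hmiff _ _ _).1 e
    have h1 := (hqiff T (⟨r' ≫ G.s⟩ : Pts G T) ⟨r ≫ G.s⟩).2 ⟨f, hf⟩
    have h2 := (hqiff T (⟨r ≫ G.t⟩ : Pts G T) ⟨r' ≫ G.t⟩).2 ⟨g, hg⟩
    simp only [Category.assoc] at h1 h2
    exact ⟨h1.symm, h2⟩
  obtain ⟨sb, hsb, -⟩ := GrpdQuot.exists_desc_scheme m (IsPullback.of_hasPullback m m) (G.s ≫ q)
    (hends pullback.condition).1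
  obtain ⟨tb, htb, -⟩ := GrpdQuot.exists_desc_scheme m (IsPullback.of_hasPullback m m) (G.t ≫ q)
    (hends pullback.condition).2
  obtain ⟨eb, heb, -⟩ := GrpdQuot.exists_desc_scheme q (IsPullback.of_hasPullback q q) (G.e ≫ m) (by
    obtain ⟨f, hf⟩ := (hqiff _ (⟨pullback.fst q q⟩ : Pts G _) ⟨pullback.snd q q⟩).1 pullback.condition
    have : Rel ιP (𝟙 (⟨pullback.fst q q⟩ : Pts G _) : _ ⟶ _).val
        (𝟙 (⟨pullback.snd q q⟩ : Pts G _) : _ ⟶ _).val :=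
      (rel_iff _ _).2 ⟨Groupoid.inv f, f, hf.inv h, hf, by simp⟩
    have := (hmiff _ _ _).2 this
    rwa [Arr.id_val, Arr.id_val, Category.assoc, Category.assoc] at this)
  obtain ⟨ib, hib, -⟩ := GrpdQuot.exists_desc_scheme m (IsPullback.of_hasPullback m m) (G.i ≫ m) (by
    obtain ⟨f, g, hf, hg, e⟩ := (hmiff _ _ _).1 (pullback.condition (f := m) (g := m))
    have : Rel ιP (Groupoid.inv (arr G (pullback.fst m m))).val
        (Groupoid.inv (arr G (pullback.snd m m))).val :=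
      (rel_iff _ _).2 ⟨Groupoid.inv g, Groupoid.inv f, hg.inv h, hf.inv h, by rw [e]; simp⟩
    have := (hmiff _ _ _).2 this
    rwa [Arr.inv_val, Arr.inv_val, Category.assoc, Category.assoc] at this)
  have hms : ∀ {T : Scheme.{u}} {x y : Pts G T} (r : x ⟶ y), (r.val ≫ m) ≫ sb = x.pt ≫ q :=
    fun r => by rw [Category.assoc, hsb, ← Category.assoc, r.hs]
  have hmt : ∀ {T : Scheme.{u}} {x y : Pts G T} (r : x ⟶ y), (r.val ≫ m) ≫ tb = y.pt ≫ q :=
    fun r => by rw [Category.assoc, htb, ← Category.assoc, r.ht]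
  -- composition
  let c₀ : pullback (m ≫ sb) (m ≫ tb) ⟶ pullback sb tb :=
    pullback.map (m ≫ sb) (m ≫ tb) sb tb m m (𝟙 Ub) (Category.comp_id _) (Category.comp_id _)
  haveI : IsFinite c₀ := MorphismProperty.pullbackMap (P := @IsFinite) hm₁ hm₁ rfl rfl
  haveI : Flat c₀ := MorphismProperty.pullbackMap (P := @Flat) hm₂ hm₂ rfl rfl
  haveI : Surjective c₀ := MorphismProperty.pullbackMap (P := @Surjective) hm₄ hm₄ rfl rfl
  let w₁ := pullback.fst (m ≫ sb) (m ≫ tb)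
  let w₂ := pullback.snd (m ≫ sb) (m ≫ tb)
  obtain ⟨fW, hfW⟩ := (hqiff _ (⟨w₂ ≫ G.t⟩ : Pts G _) ⟨w₁ ≫ G.s⟩).1 (by
    change (w₂ ≫ G.t) ≫ q = (w₁ ≫ G.s) ≫ q
    rw [Category.assoc, Category.assoc, ← htb, ← hsb]
    exact (pullback.condition (f := m ≫ sb) (g := m ≫ tb)).symm)
  let kW := (arr G w₂ ≫ fW ≫ arr G w₁).val ≫ m
  have hkW : ∀ {T : Scheme.{u}} (z : T ⟶ pullback (m ≫ sb) (m ≫ tb)) {x₁ y₁ x₂ y₂ : Pts G T}
      (r₂ : x₂ ⟶ y₂) (r₁ : x₁ ⟶ y₁) (f : y₂ ⟶ x₁), InP ιP f → z ≫ w₁ ≫ m = r₁.val ≫ m →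
      z ≫ w₂ ≫ m = r₂.val ≫ m → z ≫ kW = (r₂ ≫ f ≫ r₁).val ≫ m := by
    intro T z x₁ y₁ x₂ y₂ r₂ r₁ f hf e₁ e₂
    rw [← Category.assoc z, ← pullArr_val, pullArr_comp, pullArr_comp]
    exact (hmiff _ _ _).2 (rel_comp h (hfW.pull z) hf
      ((hmiff _ _ _).1 ((Category.assoc _ _ _).trans e₁))
      ((hmiff _ _ _).1 ((Category.assoc _ _ _).trans e₂)))
  obtain ⟨cb, hcb₀, -⟩ := GrpdQuot.exists_desc_scheme c₀ (IsPullback.of_hasPullback c₀ c₀) kW (by
    let z₁ := pullback.fst c₀ c₀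
    let z₂ := pullback.snd c₀ c₀
    have hc1 : c₀ ≫ pullback.fst sb tb = w₁ ≫ m := pullback.lift_fst _ _ _
    have hc2 : c₀ ≫ pullback.snd sb tb = w₂ ≫ m := pullback.lift_snd _ _ _
    have e₁ : z₁ ≫ w₁ ≫ m = z₂ ≫ w₁ ≫ m := by
      rw [← hc1, ← Category.assoc, ← Category.assoc, pullback.condition]
    have e₂ : z₁ ≫ w₂ ≫ m = z₂ ≫ w₂ ≫ m := by
      rw [← hc2, ← Category.assoc, ← Category.assoc, pullback.condition]
    rw [hkW z₁ (pullArr z₂ (arr G w₂)) (pullArr z₂ (arr G w₁)) (pullArr z₂ fW) (hfW.pull z₂)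
      (e₁.trans (Category.assoc _ _ _).symm) (e₂.trans (Category.assoc _ _ _).symm)]
    rw [← pullArr_comp, ← pullArr_comp, pullArr_val, Category.assoc])
  have hcb : ∀ {T : Scheme.{u}} {x y z : Pts G T} (r₂ : x ⟶ y) (r₁ : y ⟶ z)
      (w : (r₁.val ≫ m) ≫ sb = (r₂.val ≫ m) ≫ tb),
      pullback.lift (r₁.val ≫ m) (r₂.val ≫ m) w ≫ cb = (r₂ ≫ r₁).val ≫ m := by
    intro T x y z r₂ r₁ w
    let ζ : T ⟶ pullback (m ≫ sb) (m ≫ tb) :=
      pullback.lift r₁.val r₂.val (by simpa only [Category.assoc] using w)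
    have h1 : ζ ≫ w₁ = r₁.val := pullback.lift_fst _ _ _
    have h2 : ζ ≫ w₂ = r₂.val := pullback.lift_snd _ _ _
    have hζ : ζ ≫ c₀ = pullback.lift (r₁.val ≫ m) (r₂.val ≫ m) w := pullback.hom_ext
      (by rw [pullback.lift_fst, Category.assoc, pullback.lift_fst, ← Category.assoc, h1])
      (by rw [pullback.lift_snd, Category.assoc, pullback.lift_snd, ← Category.assoc, h2])
    rw [← hζ, Category.assoc, hcb₀, hkW ζ r₂ r₁ (𝟙 y) (InP.id h y) (by rw [reassoc_of% h1])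
      (by rw [reassoc_of% h2]), Category.id_comp]
  -- lifting
  have hlift : ∀ {T : Scheme.{u}} (α : T ⟶ Rb), ∃ (T' : Scheme.{u}) (c : T' ⟶ T) (x : T' ⟶ G.R),
      Epi c ∧ x ≫ m = c ≫ α := fun {T} α => by
    haveI : Flat (pullback.fst α m) := MorphismProperty.pullback_fst (P := @Flat) _ _ hm₂
    haveI : IsFinite (pullback.fst α m) := MorphismProperty.pullback_fst (P := @IsFinite) _ _ hm₁
    haveI : Surjective (pullback.fst α m) :=
      MorphismProperty.pullback_fst (P := @Surjective) _ _ hm₄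
    exact ⟨_, pullback.fst α m, pullback.snd α m, inferInstance, pullback.condition.symm⟩
  have hpair : ∀ {T : Scheme.{u}} (α β : T ⟶ Rb), α ≫ sb = β ≫ tb →
      ∃ (T' : Scheme.{u}) (c : T' ⟶ T) (x y z : Pts G T') (r₂ : x ⟶ y) (r₁ : y ⟶ z),
        Epi c ∧ r₁.val ≫ m = c ≫ α ∧ r₂.val ≫ m = c ≫ β := fun {T} α β w => by
    obtain ⟨T₁, c₁, a, hc₁, ha⟩ := hlift α
    obtain ⟨T₂, c₂, b, hc₂, hb⟩ := hlift (c₁ ≫ β)
    obtain ⟨f, hf⟩ := (hqiff T₂ (⟨b ≫ G.t⟩ : Pts G T₂) ⟨(c₂ ≫ a) ≫ G.s⟩).1 (by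
      simp only [Category.assoc]
      rw [← htb, ← hsb, reassoc_of% hb, reassoc_of% ha, w])
    refine ⟨T₂, c₂ ≫ c₁, _, _, _, arr G b, f ≫ arr G (c₂ ≫ a), epi_comp _ _, ?_,
      hb.trans (Category.assoc _ _ _).symm⟩
    refine Eq.trans ((hmiff _ _ _).2 ((rel_iff (f ≫ arr G (c₂ ≫ a)) (arr G (c₂ ≫ a))).2
      ⟨Groupoid.inv f, 𝟙 _, hf.inv h, InP.id h _, by simp⟩)) ?_
    change (c₂ ≫ a) ≫ m = _
    rw [Category.assoc, ha, Category.assoc]
  have hpre : ∀ {T T' : Scheme.{u}} (c : T' ⟶ T) (α β : T ⟶ Rb) (w : α ≫ sb = β ≫ tb),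
      c ≫ pullback.lift α β w ≫ cb =
        pullback.lift (c ≫ α) (c ≫ β) (by rw [Category.assoc, Category.assoc, w]) ≫ cb := by
    intro T T' c α β w
    rw [← Category.assoc]
    exact congrArg (· ≫ cb) (pullback.hom_ext (by simp [pullback.lift_fst]) (by simp [pullback.lift_snd]))
  have hliftc : ∀ {T : Scheme.{u}} {α α' β β' : T ⟶ Rb} (ha : α = α') (hb : β = β')
      (w : α ≫ sb = β ≫ tb),
      pullback.lift α β w ≫ cb = pullback.lift α' β' (by rw [← ha, ← hb, w]) ≫ cb := by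
    intro T α α' β β' ha hb w
    subst ha hb; rfl
  have comp_s' : ∀ {T : Scheme.{u}} (α β : T ⟶ Rb) (w : α ≫ sb = β ≫ tb),
      (pullback.lift α β w ≫ cb) ≫ sb = β ≫ sb := fun {T} α β w => by
    obtain ⟨T', c, x, y, z, r₂, r₁, hc, h₁, h₂⟩ := hpair α β w
    rw [← cancel_epi c, ← Category.assoc, hpre, hliftc h₁.symm h₂.symm, hcb r₂ r₁,
      ← Category.assoc c, ← h₂, hms, hms]
  have comp_t' : ∀ {T : Scheme.{u}} (α β : T ⟶ Rb) (w : α ≫ sb = β ≫ tb),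
      (pullback.lift α β w ≫ cb) ≫ tb = α ≫ tb := fun {T} α β w => by
    obtain ⟨T', c, x, y, z, r₂, r₁, hc, h₁, h₂⟩ := hpair α β w
    rw [← cancel_epi c, ← Category.assoc, hpre, hliftc h₁.symm h₂.symm, hcb r₂ r₁,
      ← Category.assoc c, ← h₁, hmt, hmt]
  let H : Grpd.GroupoidScheme S :=
  { U := Ub
    R := Rb
    pU := pb
    pR := mR
    s := sb
    t := tb
    e := eb
    i := ib
    c := cb
    s_over := by rw [← cancel_epi m, reassoc_of% hsb, hqS, G.s_over, hmR]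
    t_over := by rw [← cancel_epi m, reassoc_of% htb, hqS, G.t_over, hmR]
    comp_s := comp_s'
    comp_t := comp_t'
    assoc := by
      intro T α β γ w₁ w₂
      obtain ⟨T₁, c₁, x, y, z, r₂, r₁, hc₁, h₁, h₂⟩ := hpair α β w₁
      obtain ⟨T₂, c₂, g, hc₂, hg⟩ := hlift (c₁ ≫ γ)
      obtain ⟨f, hf⟩ := (hqiff T₂ (⟨g ≫ G.t⟩ : Pts G T₂) (x.pull c₂)).1 (by
        change (g ≫ G.t) ≫ q = (c₂ ≫ x.pt) ≫ q
        rw [Category.assoc, ← htb, reassoc_of% hg, Category.assoc, ← hms r₂, h₂, Category.assoc, w₂])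
      haveI := hc₁; haveI := hc₂
      let R₁ := pullArr c₂ r₁
      let R₂ := pullArr c₂ r₂
      let R₃ := arr G g ≫ f
      have e₁ : (c₂ ≫ c₁) ≫ α = R₁.val ≫ m := by
        rw [Category.assoc, ← h₁, ← Category.assoc]; rfl
      have e₂ : (c₂ ≫ c₁) ≫ β = R₂.val ≫ m := by
        rw [Category.assoc, ← h₂, ← Category.assoc]; rfl
      have e₃ : (c₂ ≫ c₁) ≫ γ = R₃.val ≫ m := by
        rw [Category.assoc, ← hg]
        exact (hmiff _ _ _).2 ((rel_iff (arr G g) R₃).2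
          ⟨𝟙 _, f, InP.id h _, hf, (Category.id_comp _).symm⟩)
      rw [← cancel_epi (c₂ ≫ c₁)]
      refine (hpre _ _ _ _).trans ?_
      refine (hliftc ((hpre _ _ _ _).trans ((hliftc e₁ e₂ _).trans (hcb R₂ R₁ _))) e₃ _).trans ?_
      refine (hcb R₃ (R₂ ≫ R₁) _).trans (Eq.symm ?_)
      refine (hpre _ _ _ _).trans ?_
      refine (hliftc e₁ ((hpre _ _ _ _).trans ((hliftc e₂ e₃ _).trans (hcb R₃ R₂ _))) _).trans ?_
      refine (hcb (R₃ ≫ R₂) R₁ _).trans ?_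
      rw [Category.assoc]
    e_s := by
      rw [← cancel_epi q, reassoc_of% heb, hsb, ← Category.assoc, G.e_s, Category.id_comp,
        Category.comp_id]
    e_t := by
      rw [← cancel_epi q, reassoc_of% heb, htb, ← Category.assoc, G.e_t, Category.id_comp,
        Category.comp_id]
    comp_e := by
      intro T α
      obtain ⟨T', c, g, hc, hg⟩ := hlift α
      haveI := hc
      have e₁ : c ≫ α = (arr G g).val ≫ m := hg.symm
      have e₂ : c ≫ α ≫ sb ≫ eb = (𝟙 (⟨g ≫ G.s⟩ : Pts G T') : _ ⟶ _).val ≫ m := by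
        rw [← Category.assoc c, e₁, ← Category.assoc _ sb, hms, Category.assoc, heb, ← Category.assoc]
        rfl
      rw [← cancel_epi c, hpre, hliftc e₁ e₂, hcb, Category.id_comp, ← e₁]
    e_comp := by
      intro T α
      obtain ⟨T', c, g, hc, hg⟩ := hlift α
      haveI := hc
      have e₁ : c ≫ α = (arr G g).val ≫ m := hg.symm
      have e₂ : c ≫ α ≫ tb ≫ eb = (𝟙 (⟨g ≫ G.t⟩ : Pts G T') : _ ⟶ _).val ≫ m := by
        rw [← Category.assoc c, e₁, ← Category.assoc _ tb, hmt, Category.assoc, heb, ← Category.assoc]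
        rfl
      rw [← cancel_epi c, hpre, hliftc e₂ e₁, hcb, Category.comp_id, ← e₁]
    i_s := by rw [← cancel_epi m, reassoc_of% hib, hsb, ← Category.assoc, G.i_s, htb]
    i_t := by rw [← cancel_epi m, reassoc_of% hib, htb, ← Category.assoc, G.i_t, hsb]
    comp_i := by
      intro T α
      obtain ⟨T', c, g, hc, hg⟩ := hlift α
      haveI := hc
      have e₁ : c ≫ α = (arr G g).val ≫ m := hg.symm
      have e₂ : c ≫ α ≫ ib = (Groupoid.inv (arr G g)).val ≫ m := by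
        rw [← Category.assoc c, e₁, Category.assoc, hib, ← Category.assoc]; rfl
      rw [← cancel_epi c, hpre, hliftc e₁ e₂, hcb, Groupoid.inv_comp, ← Category.assoc c, e₁,
        ← Category.assoc _ tb, hmt, Category.assoc, heb, ← Category.assoc]
      rfl
    i_comp := by
      intro T α
      obtain ⟨T', c, g, hc, hg⟩ := hlift α
      haveI := hc
      have e₁ : c ≫ α = (arr G g).val ≫ m := hg.symm
      have e₂ : c ≫ α ≫ ib = (Groupoid.inv (arr G g)).val ≫ m := by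
        rw [← Category.assoc c, e₁, Category.assoc, hib, ← Category.assoc]; rfl
      rw [← cancel_epi c, hpre, hliftc e₂ e₁, hcb, Groupoid.comp_inv, ← Category.assoc c, e₁,
        ← Category.assoc _ sb, hms, Category.assoc, heb, ← Category.assoc]
      rfl }
  let φ : Grpd.GroupoidScheme.Hom G H :=
  { fU := q
    fR := m
    fU_over := hqS
    comm_s := hsb
    comm_t := htb
    comm_c := fun {T} α β w =>
      (hcb (⟨β, rfl, w.symm⟩ : (⟨β ≫ G.s⟩ : Pts G T) ⟶ ⟨α ≫ G.s⟩) (arr G α) _).symm }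
  refine ⟨H, φ, hUb, hquot, hq₁, hq₂, hq₃, sqP, ?_⟩
  let Q : pullback G.pU G.pU ⟶ pullback pb pb := pullback.map G.pU G.pU pb pb q q (𝟙 S)
    ((Category.comp_id _).trans hqS.symm) ((Category.comp_id _).trans hqS.symm)
  change IsPullback m G.j H.j Q
  have hQ₁ : Q ≫ pullback.fst pb pb = pullback.fst G.pU G.pU ≫ q := pullback.lift_fst _ _ _
  have hQ₂ : Q ≫ pullback.snd pb pb = pullback.snd G.pU G.pU ≫ q := pullback.lift_snd _ _ _
  have hH₁ : H.j ≫ pullback.fst pb pb = tb := pullback.lift_fst _ _ _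
  have hH₂ : H.j ≫ pullback.snd pb pb = sb := pullback.lift_snd _ _ _
  have hG₁ : G.j ≫ pullback.fst G.pU G.pU = G.t := pullback.lift_fst _ _ _
  have hG₂ : G.j ≫ pullback.snd G.pU G.pU = G.s := pullback.lift_snd _ _ _
  have w : m ≫ H.j = G.j ≫ Q := pullback.hom_ext
    (by rw [Category.assoc, hH₁, Category.assoc, hQ₁, reassoc_of% hG₁, htb])
    (by rw [Category.assoc, hH₂, Category.assoc, hQ₂, reassoc_of% hG₂, hsb])
  have huniq : ∀ {T : Scheme.{u}} {r r' : T ⟶ G.R}, r ≫ m = r' ≫ m → r ≫ G.j = r' ≫ G.j → r = r' :=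
    fun {T r r'} e₁ e₂ => by
      have es : r' ≫ G.s = r ≫ G.s := by rw [← hG₂, reassoc_of% e₂]
      have et : r' ≫ G.t = r ≫ G.t := by rw [← hG₁, reassoc_of% e₂]
      exact congrArg Arr.val (rel_unique h
        (r := arr G r) (r' := ⟨r', es, et⟩) ((hmiff _ _ _).1 e₁))
  have hex : ∀ s : PullbackCone H.j Q, ∃ l, l ≫ m = s.fst ∧ l ≫ G.j = s.snd := fun s => by
    let u₀ := s.snd ≫ pullback.fst G.pU G.pU
    let v₀ := s.snd ≫ pullback.snd G.pU G.pU
    have hu : s.fst ≫ tb = u₀ ≫ q := by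
      rw [← hH₁, ← Category.assoc, s.condition, Category.assoc, hQ₁, Category.assoc]
    have hv : s.fst ≫ sb = v₀ ≫ q := by
      rw [← hH₂, ← Category.assoc, s.condition, Category.assoc, hQ₂, Category.assoc]
    let c := pullback.fst s.fst m
    let g := pullback.snd s.fst m
    haveI : Flat c := MorphismProperty.pullback_fst (P := @Flat) _ _ hm₂
    haveI : IsFinite c := MorphismProperty.pullback_fst (P := @IsFinite) _ _ hm₁
    haveI : Surjective c := MorphismProperty.pullback_fst (P := @Surjective) _ _ hm₄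
    have hg : g ≫ m = c ≫ s.fst := pullback.condition.symm
    obtain ⟨f₁, hf₁⟩ := (hqiff _ (⟨c ≫ v₀⟩ : Pts G _) ⟨g ≫ G.s⟩).1 (by
      change (c ≫ v₀) ≫ q = (g ≫ G.s) ≫ q
      refine (Category.assoc _ _ _).trans ((congrArg (c ≫ ·) hv.symm).trans ?_)
      rw [Category.assoc, ← hsb, reassoc_of% hg])
    obtain ⟨f₂, hf₂⟩ := (hqiff _ (⟨g ≫ G.t⟩ : Pts G _) ⟨c ≫ u₀⟩).1 (by
      change (g ≫ G.t) ≫ q = (c ≫ u₀) ≫ q
      refine Eq.trans ?_ ((congrArg (c ≫ ·) hu).trans (Category.assoc _ _ _).symm)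
      rw [Category.assoc, ← htb, reassoc_of% hg])
    let r := f₁ ≫ arr G g ≫ f₂
    have hr : r.val ≫ m = c ≫ s.fst := by
      rw [← hg]
      exact (hmiff _ _ _).2 (rel_symm h ((rel_iff (arr G g) r).2 ⟨f₁, f₂, hf₁, hf₂, rfl⟩))
    have hrj : r.val ≫ G.j = c ≫ s.snd := pullback.hom_ext
      (by rw [Category.assoc, hG₁, r.ht, Category.assoc])
      (by rw [Category.assoc, hG₂, r.hs, Category.assoc])
    obtain ⟨l, hl, -⟩ := GrpdQuot.exists_desc_scheme c (IsPullback.of_hasPullback c c) r.val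
      (huniq (by rw [Category.assoc, Category.assoc, hr, pullback.condition_assoc])
        (by rw [Category.assoc, Category.assoc, hrj, pullback.condition_assoc]))
    exact ⟨l, by rw [← cancel_epi c, reassoc_of% hl, hr], by rw [← cancel_epi c, reassoc_of% hl, hrj]⟩
  choose l hl₁ hl₂ using hex
  exact IsPullback.of_isLimit' ⟨w⟩ (PullbackCone.IsLimit.mk _ l hl₁ hl₂
    fun s l' e₁ e₂ => huniq (e₁.trans (hl₁ s).symm) (e₂.trans (hl₂ s).symm))

end Groth.Agent.Lib.SubGrpd
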