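import Mathlib.CategoryTheory.Groupoid
import Groth.Prelude.Def_Grpd

/-!
# The groupoid of points of a groupoid scheme, and subgroupoids
-/

set_option autoImplicit false

universe u

open CategoryTheory CategoryTheory.Limits AlgebraicGeometry

namespace Groth.Agent.Lib.SubGrpd

variable {S : Scheme.{u}} (G : Grpd.GroupoidScheme S)

/-- Composition of two composable points. -/
noncomputable abbrev mul {T : Scheme.{u}} (α β : T ⟶ G.R) (h : α ≫ G.s = β ≫ G.t) : T ⟶ G.R :=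
  pullback.lift α β h ≫ G.c

theorem mul_congr {T : Scheme.{u}} {α α' β β' : T ⟶ G.R} (hα : α = α') (hβ : β = β')
    (h : α ≫ G.s = β ≫ G.t) : mul G α β h = mul G α' β' (by rw [← hα, ← hβ, h]) := by
  subst hα hβ; rfl

theorem comp_mul {T T' : Scheme.{u}} (g : T' ⟶ T) (α β : T ⟶ G.R) (h : α ≫ G.s = β ≫ G.t) :
    g ≫ mul G α β h = mul G (g ≫ α) (g ≫ β) (by rw [Category.assoc, Category.assoc, h]) := by
  rw [mul, ← Category.assoc]
  exact congrArg (· ≫ G.c) (pullback.hom_ext (by simp [pullback.lift_fst]) (by simp [pullback.lift_snd]))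

theorem mul_pR {T : Scheme.{u}} (α β : T ⟶ G.R) (h : α ≫ G.s = β ≫ G.t) :
    mul G α β h ≫ G.pR = β ≫ G.pR := by
  rw [← G.s_over, ← Category.assoc, G.comp_s, Category.assoc]

/-- The objects of the groupoid of `T`-points. -/
@[ext]
structure Pts (T : Scheme.{u}) where
  /-- the point -/
  pt : T ⟶ G.U

/-- The arrows of the groupoid of `T`-points. -/
@[ext]
structure Arr {T : Scheme.{u}} (x y : Pts G T) where
  /-- the arrow -/
  val : T ⟶ G.R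
  hs : val ≫ G.s = x.pt
  ht : val ≫ G.t = y.pt

noncomputable instance (T : Scheme.{u}) : Groupoid (Pts G T) where
  Hom x y := Arr G x y
  id x := ⟨x.pt ≫ G.e, by rw [Category.assoc, G.e_s, Category.comp_id],
    by rw [Category.assoc, G.e_t, Category.comp_id]⟩
  comp f g := ⟨mul G g.val f.val (g.hs.trans f.ht.symm), (G.comp_s _ _ _).trans f.hs,
    (G.comp_t _ _ _).trans g.ht⟩
  inv f := ⟨f.val ≫ G.i, by rw [Category.assoc, G.i_s, f.ht], by rw [Category.assoc, G.i_t, f.hs]⟩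
  id_comp {x y} f := Arr.ext <| (mul_congr G rfl (show x.pt ≫ G.e = f.val ≫ G.s ≫ G.e by
    rw [← Category.assoc, f.hs]) _).trans (G.comp_e f.val)
  comp_id {x y} f := Arr.ext <| (mul_congr G (show y.pt ≫ G.e = f.val ≫ G.t ≫ G.e by
    rw [← Category.assoc, f.ht]) rfl _).trans (G.e_comp f.val)
  assoc f g h := Arr.ext (G.assoc h.val g.val f.val _ _).symm
  inv_comp {x y} f := Arr.ext <| (G.comp_i f.val).trans (by rw [← Category.assoc, f.ht])
  comp_inv {x y} f := Arr.ext <| (G.i_comp f.val).trans (by rw [← Category.assoc, f.hs])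

theorem Arr.comp_val {T : Scheme.{u}} {x y z : Pts G T} (f : x ⟶ y) (g : y ⟶ z) :
    (f ≫ g).val = mul G g.val f.val (g.hs.trans f.ht.symm) := rfl

theorem Arr.inv_val {T : Scheme.{u}} {x y : Pts G T} (f : x ⟶ y) :
    (Groupoid.inv f).val = f.val ≫ G.i := rfl

theorem Arr.id_val {T : Scheme.{u}} (x : Pts G T) : (𝟙 x : x ⟶ x).val = x.pt ≫ G.e := rfl

/-- A point of the arrows as an arrow between its endpoints. -/
def arr {T : Scheme.{u}} (α : T ⟶ G.R) : (⟨α ≫ G.s⟩ : Pts G T) ⟶ ⟨α ≫ G.t⟩ := ⟨α, rfl, rfl⟩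

section Sub

variable {P : Scheme.{u}} (ιP : P ⟶ G.R)

/-- A monomorphism into the arrows closed under units, inverses and composition, with injective
endpoint map. -/
structure IsSub : Prop where
  mono : Mono ιP
  monoJ : Mono (ιP ≫ G.j)
  unit : ∃ eP : G.U ⟶ P, eP ≫ ιP = G.e
  inverse : ∃ iP : P ⟶ P, iP ≫ ιP = ιP ≫ G.i
  comp : ∃ cP : pullback (ιP ≫ G.s) (ιP ≫ G.t) ⟶ P,
    cP ≫ ιP = pullback.map (ιP ≫ G.s) (ιP ≫ G.t) G.s G.t ιP ιP (𝟙 G.U) (Category.comp_id _)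
      (Category.comp_id _) ≫ G.c

variable {G ιP}

/-- An arrow lies in the subgroupoid. -/
def InP (ιP : P ⟶ G.R) {T : Scheme.{u}} {x y : Pts G T} (f : x ⟶ y) : Prop :=
  ∃ a : T ⟶ P, a ≫ ιP = f.val

theorem InP.id (h : IsSub G ιP) {T : Scheme.{u}} (x : Pts G T) : InP ιP (𝟙 x) := by
  obtain ⟨eP, heP⟩ := h.unit
  exact ⟨x.pt ≫ eP, by rw [Category.assoc, heP, Arr.id_val]⟩

theorem InP.inv (h : IsSub G ιP) {T : Scheme.{u}} {x y : Pts G T} {f : x ⟶ y} (hf : InP ιP f) :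
    InP ιP (Groupoid.inv f) := by
  obtain ⟨iP, hiP⟩ := h.inverse
  obtain ⟨a, ha⟩ := hf
  exact ⟨a ≫ iP, by rw [Category.assoc, hiP, Arr.inv_val, ← Category.assoc, ha]⟩

theorem InP.comp (h : IsSub G ιP) {T : Scheme.{u}} {x y z : Pts G T} {f : x ⟶ y} {g : y ⟶ z}
    (hf : InP ιP f) (hg : InP ιP g) : InP ιP (f ≫ g) := by
  obtain ⟨cP, hcP⟩ := h.comp
  obtain ⟨a, ha⟩ := hf
  obtain ⟨b, hb⟩ := hg
  refine ⟨pullback.lift b a (by rw [← Category.assoc, ← Category.assoc, hb, ha, g.hs, f.ht]) ≫ cP, ?_⟩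
  rw [Category.assoc, hcP, ← Category.assoc, Arr.comp_val, mul]
  exact congrArg (· ≫ G.c) (pullback.hom_ext (by simp [pullback.lift_fst, pullback.lift_fst_assoc, hb])
    (by simp [pullback.lift_snd, pullback.lift_snd_assoc, ha]))

theorem InP.unique (h : IsSub G ιP) {T : Scheme.{u}} {x y : Pts G T} {f g : x ⟶ y}
    (hf : InP ιP f) (hg : InP ιP g) : f = g := by
  obtain ⟨a, ha⟩ := hf
  obtain ⟨b, hb⟩ := hg
  haveI := h.monoJ
  refine Arr.ext (?_ : f.val = g.val)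
  rw [← ha, ← hb]
  congr 1
  rw [← cancel_mono (ιP ≫ G.j), reassoc_of% ha, reassoc_of% hb]
  exact pullback.hom_ext (by simp [Grpd.GroupoidScheme.j, pullback.lift_fst, f.ht, g.ht])
    (by simp [Grpd.GroupoidScheme.j, pullback.lift_snd, f.hs, g.hs])

/-- Arrows differing by arrows of the subgroupoid at both ends. -/
def Rel (ιP : P ⟶ G.R) {T : Scheme.{u}} (r r' : T ⟶ G.R) : Prop :=
  ∃ (f : (⟨r' ≫ G.s⟩ : Pts G T) ⟶ ⟨r ≫ G.s⟩) (g : (⟨r ≫ G.t⟩ : Pts G T) ⟶ ⟨r' ≫ G.t⟩),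
    InP ιP f ∧ InP ιP g ∧ arr G r' = f ≫ arr G r ≫ g

theorem rel_iff {T : Scheme.{u}} {x y x' y' : Pts G T} (r : x ⟶ y) (r' : x' ⟶ y') :
    Rel ιP r.val r'.val ↔ ∃ (f : x' ⟶ x) (g : y ⟶ y'), InP ιP f ∧ InP ιP g ∧ r' = f ≫ r ≫ g := by
  obtain ⟨x⟩ := x; obtain ⟨y⟩ := y; obtain ⟨x'⟩ := x'; obtain ⟨y'⟩ := y'
  obtain ⟨r, hs, ht⟩ := r
  obtain ⟨r', hs', ht'⟩ := r'
  simp only at hs ht hs' ht'
  subst hs ht hs' ht'
  rfl

theorem rel_refl (h : IsSub G ιP) {T : Scheme.{u}} (r : T ⟶ G.R) : Rel ιP r r :=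
  ⟨𝟙 _, 𝟙 _, InP.id h _, InP.id h _, by simp⟩

theorem rel_symm (h : IsSub G ιP) {T : Scheme.{u}} {r r' : T ⟶ G.R} (hr : Rel ιP r r') :
    Rel ιP r' r := by
  obtain ⟨f, g, hf, hg, e⟩ := hr
  exact ⟨Groupoid.inv f, Groupoid.inv g, hf.inv h, hg.inv h, by rw [e]; simp⟩

theorem rel_trans (h : IsSub G ιP) {T : Scheme.{u}} {r r' r'' : T ⟶ G.R} (h₁ : Rel ιP r r')
    (h₂ : Rel ιP r' r'') : Rel ιP r r'' := by
  obtain ⟨f, g, hf, hg, e⟩ := h₁
  obtain ⟨f', g', hf', hg', e'⟩ := h₂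
  exact ⟨f' ≫ f, g ≫ g', hf'.comp h hf, hg.comp h hg', by rw [e', e]; simp⟩

theorem rel_unique (h : IsSub G ιP) {T : Scheme.{u}} {x y : Pts G T} {r r' : x ⟶ y}
    (hr : Rel ιP r.val r'.val) : r = r' := by
  obtain ⟨f, g, hf, hg, e⟩ := (rel_iff r r').1 hr
  rw [e, InP.unique h hf (InP.id h x), InP.unique h hg (InP.id h y), Category.id_comp,
    Category.comp_id]

end Sub

end Groth.Agent.Lib.SubGrpd
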