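import Groth.Agent.Lib.SubGrpd.Pts
import Groth.Agent.Lib.GrpdQuot.OfEqvRel
import Groth.Agent.Lib.Bootstrap.QFin.Affine

/-!
# Quotients of objects and arrows by a finite locally free subgroupoid
-/

set_option autoImplicit false
set_option linter.style.haveILetI false

universe u

open CategoryTheory CategoryTheory.Limits AlgebraicGeometry

namespace Groth.Agent.Lib.SubGrpd

open Groth.Agent.Lib.AlgSpace

variable {S : Scheme.{u}} {G : Grpd.GroupoidScheme S} {P : Scheme.{u}} {ιP : P ⟶ G.R}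

theorem isSeparated_endpoints [IsSeparated G.j] [LocallyQuasiFinite G.j]
    [LocallyOfFiniteType G.j] :
    ∃ k : G.R ⟶ pullback (terminal.from G.U) (terminal.from G.U),
      IsSeparated k ∧ LocallyQuasiFinite k ∧ LocallyOfFiniteType k := by
  let d := pullback.mapDesc G.pU G.pU (terminal.from S)
  haveI : IsImmersion d := inferInstance
  haveI : LocallyQuasiFinite d := LocallyQuasiFinite.of_injective d.injective
  let e := pullback.congrHom (terminal.hom_ext (G.pU ≫ terminal.from S) (terminal.from G.U))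
    (terminal.hom_ext (G.pU ≫ terminal.from S) (terminal.from G.U))
  exact ⟨(G.j ≫ d) ≫ e.hom, inferInstance, inferInstance, inferInstance⟩

/-- The quotient of the arrows by the two-sided action of the subgroupoid. -/
theorem exists_quotient_arrows [IsAffine G.U] [IsSeparated G.j] [LocallyQuasiFinite G.j]
    [LocallyOfFiniteType G.j] (h : IsSub G ιP)
    [IsFinite (ιP ≫ G.s)] [Flat (ιP ≫ G.s)] [LocallyOfFinitePresentation (ιP ≫ G.s)]
    [IsFinite (ιP ≫ G.t)] [Flat (ιP ≫ G.t)] [LocallyOfFinitePresentation (ιP ≫ G.t)] :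
    ∃ (Rb : Scheme.{u}) (m : G.R ⟶ Rb) (mR : Rb ⟶ S), m ≫ mR = G.pR ∧
      IsFinite m ∧ Flat m ∧ LocallyOfFinitePresentation m ∧ Surjective m ∧
      ∀ (T : Scheme.{u}) (r r' : T ⟶ G.R), r ≫ m = r' ≫ m ↔ Rel ιP r r' := by
  let A₁ := pullback (ιP ≫ G.s) G.t
  let A₂ := pullback (pullback.snd (ιP ≫ G.s) G.t ≫ G.s) (ιP ≫ G.t)
  let p : A₂ ⟶ A₁ := pullback.fst _ _
  let a : A₂ ⟶ P := p ≫ pullback.fst _ _
  let r₀ : A₂ ⟶ G.R := p ≫ pullback.snd _ _
  let b : A₂ ⟶ P := pullback.snd _ _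
  have ha : (a ≫ ιP) ≫ G.s = r₀ ≫ G.t := by simp only [a, r₀, Category.assoc, pullback.condition]
  have hb : r₀ ≫ G.s = (b ≫ ιP) ≫ G.t := by
    simp only [r₀, b, p, Category.assoc]; exact pullback.condition
  have hab : mul G (a ≫ ιP) r₀ ha ≫ G.s = (b ≫ ιP) ≫ G.t := by rw [G.comp_s, hb]
  let r₁ : A₂ ⟶ G.R := mul G (mul G (a ≫ ιP) r₀ ha) (b ≫ ιP) hab
  have hpR : r₁ ≫ G.pR = r₀ ≫ G.pR := by
    rw [mul_pR, ← G.t_over, ← Category.assoc, ← hb, Category.assoc, G.s_over, G.t_over]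
  have key : ∀ {T : Scheme.{u}} (r r' : T ⟶ G.R),
      Rel ιP r r' ↔ ∃ y : T ⟶ A₂, y ≫ r₀ = r ∧ y ≫ r₁ = r' := by
    intro T r r'
    constructor
    · rintro ⟨f, g, ⟨af, haf⟩, ⟨ag, hag⟩, e⟩
      refine ⟨pullback.lift (pullback.lift ag r ?_) af ?_, ?_, ?_⟩
      · rw [← Category.assoc, hag, g.hs]
      · rw [pullback.lift_snd_assoc, ← Category.assoc, haf, f.ht]
      · simp only [r₀, p, pullback.lift_fst_assoc, pullback.lift_snd]
      · refine Eq.trans ?_ (congrArg Arr.val e).symm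
        refine (comp_mul G _ _ _ _).trans ?_
        refine mul_congr G ((comp_mul G _ _ _ _).trans (mul_congr G ?_ ?_ _)) ?_ _
        · simp only [a, p, Category.assoc, pullback.lift_fst_assoc, hag]
        · simp only [r₀, p, Category.assoc, pullback.lift_fst_assoc, pullback.lift_snd]; rfl
        · simp only [b, Category.assoc, pullback.lift_snd_assoc, haf]
    · rintro ⟨y, rfl, rfl⟩
      let g : (⟨(y ≫ r₀) ≫ G.t⟩ : Pts G T) ⟶ ⟨(y ≫ a ≫ ιP) ≫ G.t⟩ :=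
        ⟨y ≫ a ≫ ιP, by simp only [Category.assoc] at ha ⊢; rw [ha], rfl⟩
      let f : (⟨(y ≫ b ≫ ιP) ≫ G.s⟩ : Pts G T) ⟶ ⟨(y ≫ r₀) ≫ G.s⟩ :=
        ⟨y ≫ b ≫ ιP, rfl, by simp only [Category.assoc] at hb ⊢; rw [hb]⟩
      have e : y ≫ r₁ = (f ≫ arr G (y ≫ r₀) ≫ g).val := by
        rw [Arr.comp_val, comp_mul]
        exact mul_congr G (comp_mul G _ _ _ _) rfl _
      rw [e]
      exact (rel_iff (arr G (y ≫ r₀)) _).2
        ⟨f, g, ⟨y ≫ b, Category.assoc _ _ _⟩, ⟨y ≫ a, Category.assoc _ _ _⟩, rfl⟩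
  haveI := h.mono
  haveI := h.monoJ
  have hinj : ∀ {T : Scheme.{u}} (y y' : T ⟶ A₂), y ≫ r₀ = y' ≫ r₀ → y ≫ r₁ = y' ≫ r₁ → y = y' := by
    intro T y y' e₀ e₁
    have ht : ∀ z : T ⟶ A₂, ((z ≫ a) ≫ ιP) ≫ G.t = (z ≫ r₁) ≫ G.t := fun z => by
      simp only [Category.assoc]; rw [G.comp_t, G.comp_t]; simp only [a, Category.assoc]
    have hs : ∀ z : T ⟶ A₂, ((z ≫ b) ≫ ιP) ≫ G.s = (z ≫ r₁) ≫ G.s := fun z => by
      simp only [Category.assoc]; rw [G.comp_s, Category.assoc]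
    have hext : ∀ c c' : T ⟶ P, (c ≫ ιP) ≫ G.t = (c' ≫ ιP) ≫ G.t →
        (c ≫ ιP) ≫ G.s = (c' ≫ ιP) ≫ G.s → c = c' := fun c c' h1 h2 => by
      rw [← cancel_mono (ιP ≫ G.j)]
      exact pullback.hom_ext (by simpa [Grpd.GroupoidScheme.j, pullback.lift_fst] using h1)
        (by simpa [Grpd.GroupoidScheme.j, pullback.lift_snd] using h2)
    have h1 : y ≫ a = y' ≫ a := hext _ _ (by rw [ht, ht, e₁]) (by
      simp only [Category.assoc] at ha ⊢
      rw [ha, ← Category.assoc, e₀, Category.assoc])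
    have h2 : y ≫ b = y' ≫ b := hext _ _ (by
      simp only [Category.assoc] at hb ⊢
      rw [← hb, ← Category.assoc, e₀, Category.assoc]) (by rw [hs, hs, e₁])
    exact pullback.hom_ext (pullback.hom_ext (by simpa [a, p] using h1) (by simpa [r₀, p] using e₀)) h2
  let RO : Over S := Over.mk G.pR
  let AO : Over S := Over.mk (r₀ ≫ G.pR)
  let s' : AO ⟶ RO := Over.homMk r₀ rfl
  let t' : AO ⟶ RO := Over.homMk r₁ hpR
  have heq : AlgSp.IsEqvRel s' t' := by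
    refine ⟨fun T y y' e₁ e₀ => Over.OverMorphism.ext
      (hinj _ _ congr($(e₀).left) congr($(e₁).left)), fun T => ?_⟩
    have k : ∀ x x' : T ⟶ RO, (∃ y : T ⟶ AO, y ≫ t' = x ∧ y ≫ s' = x') ↔ Rel ιP x'.left x.left := by
      intro x x'
      rw [key]
      constructor
      · rintro ⟨y, rfl, rfl⟩
        exact ⟨y.left, rfl, rfl⟩
      · rintro ⟨y, e₀, e₁⟩
        exact ⟨Over.homMk y (by change y ≫ r₀ ≫ G.pR = _; rw [reassoc_of% e₀]; exact Over.w x'),
          Over.OverMorphism.ext e₁, Over.OverMorphism.ext e₀⟩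
    exact ⟨fun x => (k x x).2 (rel_refl h _), fun hxy => (k _ _).2 (rel_symm h ((k _ _).1 hxy)),
      fun hxy hyz => (k _ _).2 (rel_trans h ((k _ _).1 hyz) ((k _ _).1 hxy))⟩
  have sq₁ := IsPullback.of_hasPullback (ιP ≫ G.s) G.t
  have sq₂ := IsPullback.of_hasPullback (pullback.snd (ιP ≫ G.s) G.t ≫ G.s) (ιP ≫ G.t)
  haveI : IsFinite s'.left := inferInstanceAs (IsFinite (p ≫ pullback.snd _ _))
  haveI : Flat s'.left := inferInstanceAs (Flat (p ≫ pullback.snd _ _))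
  haveI : LocallyOfFinitePresentation s'.left :=
    inferInstanceAs (LocallyOfFinitePresentation (p ≫ pullback.snd _ _))
  obtain ⟨i, hit, his, hii⟩ := Bootstrap.exists_inverse heq
  haveI : IsIso i.left := ⟨i.left, by rw [← Over.comp_left, hii]; rfl,
    by rw [← Over.comp_left, hii]; rfl⟩
  have hts : t'.left = i.left ≫ s'.left := by rw [← Over.comp_left, his]
  haveI : IsFinite t'.left := hts ▸ inferInstance
  haveI : Flat t'.left := hts ▸ inferInstance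
  haveI : LocallyOfFinitePresentation t'.left := hts ▸ inferInstance
  obtain ⟨k, hk₁, hk₂, hk₃⟩ := isSeparated_endpoints (G := G)
  haveI : IsAffine (pullback (terminal.from G.U) (terminal.from G.U)) := inferInstance
  obtain ⟨M, m, ⟨hm₁, hm₂, hm₃⟩, hm₄, sq⟩ := GrpdQuot.exists_scheme_quotient_of_eqvRel heq fun u => by
    obtain ⟨V, hV, hVu⟩ := Bootstrap.QFin.exists_affineOpen_of_finite k
      (t'.left '' (s'.left ⁻¹' {u})) ((s'.left.finite_preimage_singleton u).image _)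
    exact ⟨V, hV, fun r hr => hVu ⟨r, hr, rfl⟩⟩
  refine ⟨M.left, m.left, M.hom, Over.w m, hm₁, hm₂, hm₃, hm₄, fun T r r' => ⟨fun e => ?_, fun e => ?_⟩⟩
  · exact rel_symm h ((key r' r).2 ⟨sq.lift r r' e, sq.lift_snd _ _ _, sq.lift_fst _ _ _⟩)
  · obtain ⟨y, e₀, e₁⟩ := (key r r').1 e
    rw [← e₀, ← e₁, Category.assoc, Category.assoc]
    exact congrArg (y ≫ ·) sq.w.symm

/-- The quotient of the objects. -/
theorem exists_quotient_objects [IsAffine G.U] (h : IsSub G ιP)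
    [IsFinite (ιP ≫ G.s)] [Flat (ιP ≫ G.s)] [LocallyOfFinitePresentation (ιP ≫ G.s)]
    [IsFinite (ιP ≫ G.t)] [Flat (ιP ≫ G.t)] [LocallyOfFinitePresentation (ιP ≫ G.t)] :
    ∃ (Ub : Scheme.{u}) (q : G.U ⟶ Ub) (pb : Ub ⟶ S) (hq : q ≫ pb = G.pU), IsAffine Ub ∧
      IsFinite q ∧ Flat q ∧ LocallyOfFinitePresentation q ∧ Surjective q ∧
      IsPullback (ιP ≫ G.t) (ιP ≫ G.s) q q ∧
      (∀ (T : Scheme.{u}) (x y : Pts G T), x.pt ≫ q = y.pt ≫ q ↔ ∃ f : x ⟶ y, InP ιP f) ∧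
      QuotSh.IsQuotient Scheme.fppfPrecoverage
        (Over.homMk (ιP ≫ G.s) ((Category.assoc _ _ _).trans (congrArg (ιP ≫ ·) G.s_over)) :
          (Over.mk (ιP ≫ G.pR) : Over S) ⟶ Over.mk G.pU)
        (Over.homMk (ιP ≫ G.t) ((Category.assoc _ _ _).trans (congrArg (ιP ≫ ·) G.t_over)) :
          (Over.mk (ιP ≫ G.pR) : Over S) ⟶ Over.mk G.pU)
        (Over.homMk q hq : Over.mk G.pU ⟶ Over.mk pb) := by
  haveI := h.monoJ
  let PO : Over S := Over.mk (ιP ≫ G.pR)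
  let UO : Over S := Over.mk G.pU
  let sP : PO ⟶ UO := Over.homMk (ιP ≫ G.s) ((Category.assoc _ _ _).trans (congrArg (ιP ≫ ·) G.s_over))
  let tP : PO ⟶ UO := Over.homMk (ιP ≫ G.t) ((Category.assoc _ _ _).trans (congrArg (ιP ≫ ·) G.t_over))
  have hk : ∀ {T : Over S} (x y : T ⟶ UO), (∃ z : T ⟶ PO, z ≫ tP = x ∧ z ≫ sP = y) ↔
      ∃ f : (⟨y.left⟩ : Pts G T.left) ⟶ ⟨x.left⟩, InP ιP f := by
    intro T x y
    constructor
    · rintro ⟨z, rfl, rfl⟩
      exact ⟨⟨z.left ≫ ιP, Category.assoc _ _ _, Category.assoc _ _ _⟩, z.left, rfl⟩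
    · rintro ⟨f, z, hz⟩
      have e₁ : z ≫ ιP ≫ G.s = y.left := by rw [← Category.assoc, hz]; exact f.hs
      have e₂ : z ≫ ιP ≫ G.t = x.left := by rw [← Category.assoc, hz]; exact f.ht
      exact ⟨Over.homMk z (by
          change z ≫ ιP ≫ G.pR = _
          rw [← G.s_over, reassoc_of% e₁]
          exact Over.w y),
        Over.OverMorphism.ext e₂, Over.OverMorphism.ext e₁⟩
  have heq : AlgSp.IsEqvRel sP tP := by
    refine ⟨fun T z z' e₁ e₂ => Over.OverMorphism.ext ?_, fun T => ?_⟩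
    · rw [← cancel_mono (ιP ≫ G.j)]
      refine pullback.hom_ext ?_ ?_
      · simpa [Grpd.GroupoidScheme.j, pullback.lift_fst, tP] using congr($(e₁).left)
      · simpa [Grpd.GroupoidScheme.j, pullback.lift_snd, sP] using congr($(e₂).left)
    · refine ⟨fun x => (hk x x).2 ⟨𝟙 _, InP.id h _⟩, fun hxy => ?_, fun hxy hyz => ?_⟩
      · obtain ⟨f, hf⟩ := (hk _ _).1 hxy
        exact (hk _ _).2 ⟨Groupoid.inv f, hf.inv h⟩
      · obtain ⟨f, hf⟩ := (hk _ _).1 hxy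
        obtain ⟨g, hg⟩ := (hk _ _).1 hyz
        exact (hk _ _).2 ⟨g ≫ f, hg.comp h hf⟩
  let K := GrpdQuot.ofEqvRel heq
  haveI : IsFinite K.s := inferInstanceAs (IsFinite (ιP ≫ G.s))
  haveI : Flat K.s := inferInstanceAs (Flat (ιP ≫ G.s))
  haveI : LocallyOfFinitePresentation K.s :=
    inferInstanceAs (LocallyOfFinitePresentation (ιP ≫ G.s))
  haveI : IsFinite K.t := inferInstanceAs (IsFinite (ιP ≫ G.t))
  haveI : Flat K.t := inferInstanceAs (Flat (ιP ≫ G.t))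
  haveI : LocallyOfFinitePresentation K.t :=
    inferInstanceAs (LocallyOfFinitePresentation (ιP ≫ G.t))
  haveI : IsAffine K.U := ‹IsAffine G.U›
  haveI : IsAffine K.R := isAffine_of_isAffineHom K.s
  haveI : Mono K.j := GrpdQuot.mono_j_of_isEqvRel K heq
  obtain ⟨hf, hfl, hfp⟩ := GrpdQuot.toQuot_finLocFree K
  haveI : Surjective K.toQuot := ⟨GrpdQuot.toQuot_surjective K⟩
  haveI := hf; haveI := hfl; haveI := hfp
  have sq : IsPullback (ιP ≫ G.t) (ιP ≫ G.s) K.toQuot K.toQuot := GrpdQuot.isPullback_toQuot K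
  obtain ⟨pb, hpb, -⟩ := GrpdQuot.exists_desc_scheme K.toQuot sq G.pU
    ((Category.assoc _ _ _).trans ((congrArg (ιP ≫ ·) G.t_over).trans
      ((congrArg (ιP ≫ ·) G.s_over).symm.trans (Category.assoc _ _ _).symm)))
  refine ⟨_, K.toQuot, pb, hpb, inferInstance, hf, hfl, hfp, ⟨GrpdQuot.toQuot_surjective K⟩, sq, fun T x y => ?_,
    GrpdQuot.isQuotient_of_fppfCover _ _ _ ⟨⟨‹Surjective K.toQuot›, hfl⟩, hfp⟩ sq⟩
  constructor
  · intro e
    exact ⟨⟨sq.lift y.pt x.pt e.symm ≫ ιP, by rw [Category.assoc]; exact sq.lift_snd _ _ _,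
      by rw [Category.assoc]; exact sq.lift_fst _ _ _⟩, _, rfl⟩
  · rintro ⟨f, z, hz⟩
    rw [← f.hs, ← f.ht, ← hz]
    simp only [Category.assoc]
    exact congrArg (z ≫ ·) (by simpa only [Category.assoc] using sq.w.symm)

end Groth.Agent.Lib.SubGrpd
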